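import Mathlib.RingTheory.Nullstellensatz
import Mathlib.RingTheory.MvPolynomial.EulerIdentity
import Mathlib.Algebra.MvPolynomial.Funext
import Mathlib.Algebra.MvPolynomial.Nilpotent
import Mathlib.RingTheory.MvPolynomial.IrreducibleQuadratic
import Mathlib.RingTheory.Polynomial.UniqueFactorization
import Mathlib.Algebra.Polynomial.Derivative
import Mathlib.Algebra.Squarefree.Basic
import Mathlib.LinearAlgebra.Projectivization.Basic
import Mathlib.LinearAlgebra.FiniteDimensional.Lemmas

/-!
# Singular points of reduced plane quartics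

A form vanishing to multiplicity `μ` at many points of a rational curve contains the curve; applied to
lines and conics this bounds the singular points of a reduced plane quartic by six.
-/

set_option autoImplicit false
universe u

open MvPolynomial

noncomputable section

namespace Groth.Agent.QuarticSing

variable {k : Type u} [Field k]

local notation "S" => MvPolynomial (Fin 3) k

/-- `v` is a singular zero of `f`. -/
def SingAt (f : S) (v : Fin 3 → k) : Prop := eval v f = 0 ∧ ∀ i, eval v (pderiv i f) = 0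

theorem eval_smul {f : S} {n : ℕ} (hf : f.IsHomogeneous n) (c : k) (v : Fin 3 → k) :
    eval (c • v) f = c ^ n * eval v f := by
  rw [eval_eq, eval_eq, Finset.mul_sum]
  refine Finset.sum_congr rfl fun d hd => ?_
  have hdeg : ∑ i ∈ d.support, d i = n := by
    have := hf (mem_support_iff.1 hd)
    rw [Finsupp.weight_apply] at this
    simpa [Finsupp.sum] using this
  simp only [Pi.smul_apply, smul_eq_mul, mul_pow, Finset.prod_mul_distrib, Finset.prod_pow_eq_pow_sum,
    hdeg]
  ring

theorem singAt_smul {f : S} {n : ℕ} (hf : f.IsHomogeneous n) (c : k) {v : Fin 3 → k}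
    (h : SingAt f v) : SingAt f (c • v) :=
  ⟨by rw [eval_smul hf, h.1, mul_zero], fun i => by rw [eval_smul hf.pderiv, h.2, mul_zero]⟩

theorem natDegree_aeval_le {f : S} {n e : ℕ} (hf : f.IsHomogeneous n) (P : Fin 3 → Polynomial k)
    (hP : ∀ i, (P i).natDegree ≤ e) : (aeval P f).natDegree ≤ n * e := by
  rw [aeval_def, eval₂_eq']
  refine Polynomial.natDegree_sum_le_of_forall_le _ _ fun d hd => ?_
  refine Polynomial.natDegree_mul_le.trans ?_
  rw [show (algebraMap k (Polynomial k)) (coeff d f) = Polynomial.C (coeff d f) from rfl,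
    Polynomial.natDegree_C, zero_add]
  refine (Polynomial.natDegree_prod_le _ _).trans ?_
  have hdeg : ∑ i, d i = n := by
    have := hf (mem_support_iff.1 hd)
    rw [Finsupp.weight_apply, Finsupp.sum_fintype _ _ (by simp)] at this
    simpa using this
  rw [← hdeg, Finset.sum_mul]
  exact Finset.sum_le_sum fun i _ => Polynomial.natDegree_pow_le.trans (Nat.mul_le_mul_left _ (hP i))

theorem eval_aeval (P : Fin 3 → Polynomial k) (t : k) (f : S) :
    (aeval P f).eval t = eval (fun i => (P i).eval t) f := by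
  induction f using MvPolynomial.induction_on with
  | C a => simp
  | add p q hp hq => simp [hp, hq]
  | mul_X p i hp => simp [hp]

theorem derivative_aeval (P : Fin 3 → Polynomial k) (f : S) :
    Polynomial.derivative (aeval P f) = ∑ i, aeval P (pderiv i f) * Polynomial.derivative (P i) := by
  induction f using MvPolynomial.induction_on with
  | C a => simp
  | add p q hp hq => simp [hp, hq, Finset.sum_add_distrib, add_mul]
  | mul_X p i hp =>
    have e : ∀ j, aeval P (pderiv j (p * X i)) = aeval P (pderiv j p) * P i + if j = i then aeval P p else 0 := by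
      intro j
      rw [pderiv_mul, map_add, map_mul, map_mul, aeval_X]
      rcases eq_or_ne j i with rfl | hj
      · rw [pderiv_X_self, map_one, mul_one, if_pos rfl]
      · rw [pderiv_X_of_ne hj.symm, map_zero, mul_zero, if_neg hj]
    rw [map_mul, aeval_X, Polynomial.derivative_mul, hp, Finset.sum_mul]
    simp only [e, add_mul, ite_mul, zero_mul, Finset.sum_add_distrib, Finset.sum_ite_eq', Finset.mem_univ, if_true]
    refine congrArg₂ (· + ·) (Finset.sum_congr rfl fun j _ => ?_) rfl
    rw [mul_assoc, mul_assoc, mul_comm (P i)]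

/-- A polynomial with too many roots, counted with multiplicity, vanishes. -/
theorem eq_zero_of_roots {F : Polynomial k} {μ D : ℕ} (s : Finset k) (hD : F.natDegree ≤ D)
    (h : F ≠ 0 → ∀ t ∈ s, μ ≤ F.rootMultiplicity t) (hc : D < μ * s.card) : F = 0 := by
  classical
  by_contra hF
  have h1 : ∑ t ∈ s, μ ≤ F.natDegree := by
    refine le_trans ?_ (Polynomial.card_roots' F)
    calc ∑ t ∈ s, μ ≤ ∑ t ∈ s, F.roots.count t :=
          Finset.sum_le_sum fun t ht => by rw [Polynomial.count_roots]; exact h hF t ht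
      _ ≤ ∑ t ∈ s ∪ F.roots.toFinset, F.roots.count t :=
          Finset.sum_le_sum_of_subset Finset.subset_union_left
      _ = ∑ t ∈ F.roots.toFinset, F.roots.count t := by
          refine (Finset.sum_subset Finset.subset_union_right fun t _ ht => ?_).symm
          rw [Multiset.mem_toFinset] at ht
          exact Multiset.count_eq_zero.2 ht
      _ = Multiset.card F.roots := Multiset.toFinset_sum_count_eq _
  rw [Finset.sum_const, smul_eq_mul, mul_comm] at h1
  omega

variable [IsAlgClosed k]

local notation "ℙ" => Projectivization k (Fin 3 → k)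

/-- A curve `q = 0` parametrised by `P`, away from `m = 0`. -/
structure Param (q : S) (e : ℕ) where
  m : S
  P : Fin 3 → Polynomial k
  deg : ∀ i, (P i).natDegree ≤ e
  ndvd : ¬ q ∣ m
  cover : ∀ v, eval v q = 0 → eval v m ≠ 0 → ∃ t c : k, v = c • fun i => (P i).eval t

/-- Too many points of a parametrised curve on a form. -/
theorem Param.dvd_of_card {q : S} {e : ℕ} (C : Param q e) (hq : Prime q) {f : S} {n : ℕ}
    (hn : 0 < n) (hf : f.IsHomogeneous n) {μ : ℕ} (hμ : μ = 1 ∨ μ = 2) (s : Finset ℙ)
    (hon : ∀ p ∈ s, eval p.rep q = 0) (hm : ∀ p ∈ s, eval p.rep C.m ≠ 0)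
    (hs : ∀ p ∈ s, eval p.rep f = 0 ∧ (μ = 2 → ∀ i, eval p.rep (pderiv i f) = 0))
    (hc : n * e < μ * s.card) : q ∣ f := by
  classical
  choose! t c hv using fun p (hp : p ∈ s) => C.cover p.rep (hon p hp) (hm p hp)
  have hc0 : ∀ p ∈ s, c p ≠ 0 := fun p hp h => p.rep_nonzero (by rw [hv p hp, h, zero_smul])
  have hinj : Set.InjOn t s := by
    intro p hp p' hp' h
    rw [← p.mk_rep, ← p'.mk_rep, Projectivization.mk_eq_mk_iff']
    exact ⟨c p / c p', by rw [hv p hp, hv p' hp', h, smul_smul, div_mul_cancel₀ _ (hc0 p' hp')]⟩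
  have hF : aeval C.P f = 0 := by
    refine eq_zero_of_roots (μ := μ) (s.image t) (natDegree_aeval_le hf C.P C.deg) ?_ (by
      rwa [Finset.card_image_of_injOn hinj])
    intro hne x hx
    obtain ⟨p, hp, rfl⟩ := Finset.mem_image.1 hx
    have hPv : (fun i => (C.P i).eval (t p)) = (c p)⁻¹ • p.rep := by
      rw [hv p hp, inv_smul_smul₀ (hc0 p hp)]
    have h0 : (aeval C.P f).IsRoot (t p) := by
      rw [Polynomial.IsRoot, eval_aeval, hPv, eval_smul hf, (hs p hp).1, mul_zero]
    rcases hμ with rfl | rfl
    · exact (Polynomial.rootMultiplicity_pos hne).2 h0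
    · refine (Polynomial.one_lt_rootMultiplicity_iff_isRoot hne).2 ⟨h0, ?_⟩
      rw [Polynomial.IsRoot, derivative_aeval, Polynomial.eval_finsetSum]
      refine Finset.sum_eq_zero fun i _ => ?_
      rw [Polynomial.eval_mul, eval_aeval, hPv, eval_smul hf.pderiv, (hs p hp).2 rfl i, mul_zero, zero_mul]
  have hmul : f * C.m ∈ vanishingIdeal k (zeroLocus k (Ideal.span {q})) := by
    intro v hv'
    rw [map_mul]
    by_cases hmv : aeval v C.m = 0
    · rw [hmv, mul_zero]
    have hqv : eval v q = 0 := by simpa using hv' q (Ideal.mem_span_singleton_self q)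
    obtain ⟨t', c', rfl⟩ := C.cover v hqv (by simpa using hmv)
    have h1 : eval (c' • fun i => (C.P i).eval t') f = 0 := by
      rw [eval_smul hf, ← eval_aeval, hF, Polynomial.eval_zero, mul_zero]
    have h2 : aeval (c' • fun i => (C.P i).eval t') f = 0 := by simpa using h1
    rw [h2, zero_mul]
  rw [vanishingIdeal_zeroLocus_eq_radical, ((Ideal.span_singleton_prime hq.ne_zero).2 hq).radical,
    Ideal.mem_span_singleton] at hmul
  exact (hq.dvd_mul.1 hmul).resolve_right C.ndvd

/-- The linear form with given coefficients. -/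
def lin (l : (Fin 3 → k) →ₗ[k] k) : S := ∑ i, MvPolynomial.C (l (Pi.single i 1)) * X i

omit [IsAlgClosed k] in
theorem eval_lin (l : (Fin 3 → k) →ₗ[k] k) (v : Fin 3 → k) : eval v (lin l) = l v := by
  conv_rhs => rw [pi_eq_sum_univ' v, map_sum]
  simp [lin, mul_comm]

omit [IsAlgClosed k] in
theorem isHomogeneous_lin (l : (Fin 3 → k) →ₗ[k] k) : (lin l).IsHomogeneous 1 :=
  IsHomogeneous.sum _ _ _ fun i _ => (isHomogeneous_X k i).C_mul _

omit [IsAlgClosed k] in
theorem pderiv_lin (l : (Fin 3 → k) →ₗ[k] k) (i : Fin 3) : pderiv i (lin l) = MvPolynomial.C (l (Pi.single i 1)) := by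
  classical
  rw [lin, map_sum, Finset.sum_eq_single i]
  · simp
  · intro j _ hj
    simp [pderiv_X_of_ne hj]
  · simp

omit [IsAlgClosed k] in
theorem lin_ne_zero {l : (Fin 3 → k) →ₗ[k] k} (hl : l ≠ 0) : lin l ≠ 0 := fun h => hl (LinearMap.ext fun v => by
  rw [← eval_lin l v, h, map_zero]; rfl)

omit [IsAlgClosed k] in
theorem prime_lin {l : (Fin 3 → k) →ₗ[k] k} (hl : l ≠ 0) : Prime (lin l) := by
  have hne := lin_ne_zero hl
  refine (irreducible_of_totalDegree_eq_one ((isHomogeneous_lin l).totalDegree hne) fun x hx => ?_).prime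
  obtain ⟨d, hd⟩ := exists_coeff_ne_zero hne
  exact isUnit_iff_ne_zero.2 fun h => hd (by simpa [h] using hx d)

omit [IsAlgClosed k] in
theorem isHomogeneous_of_mul {q g f : S} {a n : ℕ} (hq : q.IsHomogeneous a) (hq0 : q ≠ 0)
    (hf : f.IsHomogeneous (a + n)) (h : f = q * g) : g.IsHomogeneous n := by
  classical
  intro d hd
  by_contra hne
  have hj : homogeneousComponent d.degree g = 0 := by
    have hne' : a + d.degree ≠ a + n := by
      have e : Finsupp.weight (1 : Fin 3 → ℕ) d = d.degree := by
        rw [Finsupp.degree_eq_weight_one]; rfl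
      rw [e] at hne
      omega
    refine (mul_eq_zero.1 ?_).resolve_left hq0
    have hsum : ∀ j, homogeneousComponent (a + j) (q * g) = q * homogeneousComponent j g := by
      intro j
      conv_lhs => rw [← sum_homogeneousComponent g, Finset.mul_sum, map_sum]
      have hm : ∀ i, homogeneousComponent (a + j) (q * homogeneousComponent i g) =
          if i = j then q * homogeneousComponent i g else 0 := fun i => by
        rw [homogeneousComponent_of_mem (m := a + j) (n := a + i)
          ((hq.mul (homogeneousComponent_isHomogeneous i g)))]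
        simp [eq_comm]
      rw [Finset.sum_congr rfl fun i _ => hm i, Finset.sum_ite_eq']
      split_ifs with hjr
      · rfl
      · rw [homogeneousComponent_eq_zero, mul_zero]
        simpa using hjr
    rw [← hsum, ← h, homogeneousComponent_of_mem hf, if_neg hne']
  apply hd
  have := congrArg (coeff d) hj
  rwa [coeff_homogeneousComponent, if_pos rfl, coeff_zero] at this

omit [IsAlgClosed k] in
theorem squarefree_of_dvd {f g : S} (hf : Squarefree f) (h : g ∣ f) : Squarefree g :=
  hf.squarefree_of_dvd h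

/-- A line through given points, with a parametrisation missing none of them. -/
theorem exists_line_param {B : Module.Basis (Fin 3) k (Fin 3 → k)} (T : Finset ℙ)
    (hon : ∀ p ∈ T, B.coord 2 p.rep = 0) :
    ∃ C : Param (lin (B.coord 2)) 1, ∀ p ∈ T, eval p.rep C.m ≠ 0 := by
  classical
  obtain ⟨c, hcT⟩ := Infinite.exists_notMem_finset
    (T.image fun p => B.coord 1 p.rep / B.coord 0 p.rep)
  have hsum : ∀ v, B.coord 0 v • B 0 + B.coord 1 v • B 1 + B.coord 2 v • B 2 = v := fun v => by
    have := B.sum_repr v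
    rw [Fin.sum_univ_three] at this
    simpa using this
  let l := B.coord 1 - c • B.coord 0
  refine ⟨⟨lin l, fun i => Polynomial.C (B 1 i) + Polynomial.X * Polynomial.C (B 0 i + c * B 1 i),
    fun i => ?_, ?_, ?_⟩, fun p hp => ?_⟩
  · refine (Polynomial.natDegree_add_le _ _).trans (max_le (by simp) ?_)
    refine Polynomial.natDegree_mul_le.trans ?_
    rw [Polynomial.natDegree_C, add_zero]
    exact Polynomial.natDegree_X_le
  · rintro ⟨g, hg⟩
    have h := congrArg (eval (B 1)) hg
    simp [eval_lin, map_mul, l] at h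
  · intro v hv hm
    rw [eval_lin] at hv hm
    refine ⟨B.coord 0 v / l v, l v, ?_⟩
    conv_lhs => rw [← hsum v, hv, zero_smul, add_zero]
    funext i
    simp only [Polynomial.eval_add, Polynomial.eval_C, Polynomial.eval_mul, Polynomial.eval_X,
      Pi.add_apply, Pi.smul_apply, smul_eq_mul]
    field_simp
    simp only [l, LinearMap.sub_apply, LinearMap.smul_apply, smul_eq_mul]
    ring
  · rw [eval_lin]
    intro h0
    have h1 : B.coord 1 p.rep = c * B.coord 0 p.rep := by
      simpa [l, sub_eq_zero] using h0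
    by_cases h00 : B.coord 0 p.rep = 0
    · rw [h00, mul_zero] at h1
      refine p.rep_nonzero ?_
      rw [← hsum p.rep, h00, h1, hon p hp]
      simp
    · exact hcT (Finset.mem_image.2 ⟨p, hp, by rw [h1, mul_div_assoc, div_self h00, mul_one]⟩)

/-- Two points determine a line. -/
theorem exists_basis_of_two {p₁ p₂ : ℙ} (h : p₁ ≠ p₂) :
    ∃ B : Module.Basis (Fin 3) k (Fin 3 → k), B 0 = p₁.rep ∧ B 1 = p₂.rep := by
  have hli : LinearIndependent k ![p₁.rep, p₂.rep] := by
    rw [LinearIndependent.pair_iff' p₁.rep_nonzero]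
    intro a ha
    apply h
    rw [← p₁.mk_rep, ← p₂.mk_rep, Projectivization.mk_eq_mk_iff']
    have ha0 : a ≠ 0 := fun h0 => p₂.rep_nonzero (by rw [← ha, h0, zero_smul])
    exact ⟨a⁻¹, by rw [← ha, inv_smul_smul₀ ha0]⟩
  obtain ⟨e, he⟩ : ∃ e, e ∉ Submodule.span k (Set.range ![p₁.rep, p₂.rep]) := by
    by_contra hall
    push Not at hall
    have h1 := finrank_span_eq_card hli
    have htop : Submodule.span k (Set.range ![p₁.rep, p₂.rep]) = ⊤ := eq_top_iff.2 (fun x _ => hall x)
    rw [htop, finrank_top, Module.finrank_pi] at h1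
    simp at h1
  have h3 : LinearIndependent k ![p₁.rep, p₂.rep, e] := by
    have := linearIndependent_finSnoc.2 ⟨hli, he⟩
    rwa [show Fin.snoc ![p₁.rep, p₂.rep] e = ![p₁.rep, p₂.rep, e] from by funext i; fin_cases i <;> rfl] at this
  refine ⟨basisOfLinearIndependentOfCardEqFinrank h3 (by simp), ?_, ?_⟩ <;> simp

/-- A line containing too many of the singular points splits off. -/
theorem exists_split {f : S} {n : ℕ} (hf : f.IsHomogeneous (n + 1)) (hsq : Squarefree f) (s : Finset ℙ)
    (hs : ∀ p ∈ s, SingAt f p.rep) (B : Module.Basis (Fin 3) k (Fin 3 → k)) (T : Finset ℙ) (hT : T ⊆ s)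
    (hon : ∀ p ∈ T, B.coord 2 p.rep = 0) (hc : n + 1 < 2 * T.card) :
    ∃ (g : S) (s' : Finset ℙ), g.IsHomogeneous n ∧ Squarefree g ∧ (∀ p ∈ s', SingAt g p.rep) ∧
      s.card ≤ n + s'.card := by
  classical
  set l := B.coord 2
  have hl : l ≠ 0 := fun h => by
    have := LinearMap.congr_fun h (B 2)
    simp [l] at this
  obtain ⟨C, hC⟩ := exists_line_param T hon
  obtain ⟨g, rfl⟩ := C.dvd_of_card (prime_lin hl) n.succ_pos hf (Or.inr rfl) T
    (fun p hp => by rw [eval_lin]; exact hon p hp) hC (fun p hp => ⟨(hs p (hT hp)).1, fun _ => (hs p (hT hp)).2⟩)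
    (by omega)
  have hg : g.IsHomogeneous n :=
    isHomogeneous_of_mul (isHomogeneous_lin l) (lin_ne_zero hl) (by rwa [add_comm] at hf) rfl
  refine ⟨g, s.filter fun p => l p.rep ≠ 0, hg, hsq.squarefree_of_dvd (Dvd.intro_left _ rfl), fun p hp => ?_, ?_⟩
  · obtain ⟨hp, hlp⟩ := Finset.mem_filter.1 hp
    obtain ⟨h0, h1⟩ := hs p hp
    rw [map_mul, eval_lin, mul_eq_zero] at h0
    refine ⟨h0.resolve_left hlp, fun i => ?_⟩
    have := h1 i
    rw [pderiv_mul, map_add, map_mul, map_mul, h0.resolve_left hlp, mul_zero, zero_add, eval_lin,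
      mul_eq_zero] at this
    exact this.resolve_left hlp
  · rw [← Finset.card_filter_add_card_filter_not (s := s) fun p => l p.rep = 0]
    refine Nat.add_le_add_right ?_ _
    by_contra hlt
    set R := s.filter fun p => l p.rep = 0
    obtain ⟨C', hC'⟩ := exists_line_param R fun p hp => (Finset.mem_filter.1 hp).2
    have hgR : ∀ p ∈ R, eval p.rep g = 0 := fun p hp => by
      obtain ⟨hp, hlp⟩ := Finset.mem_filter.1 hp
      obtain ⟨i, hi⟩ : ∃ i, l (Pi.single i 1) ≠ 0 := by
        by_contra hall
        push Not at hall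
        exact hl (LinearMap.ext fun v => by rw [pi_eq_sum_univ' v, map_sum]; simp [hall])
      have := (hs p hp).2 i
      rw [pderiv_mul, map_add, map_mul, map_mul, eval_lin, hlp, zero_mul, add_zero, pderiv_lin, eval_C,
        mul_eq_zero] at this
      exact this.resolve_left hi
    rcases Nat.eq_zero_or_pos n with rfl | hn
    · obtain ⟨p, hp⟩ := Finset.card_pos.1 (show 0 < R.card by omega)
      obtain ⟨a, rfl⟩ : ∃ a, g = MvPolynomial.C a := ⟨_, totalDegree_eq_zero_iff_eq_C.1 (le_antisymm hg.totalDegree_le zero_le)⟩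
      have := hgR p hp
      rw [eval_C] at this
      exact hsq.ne_zero (by rw [this, map_zero, mul_zero])
    · obtain ⟨g', rfl⟩ := C'.dvd_of_card (prime_lin hl) hn hg (Or.inl rfl) R
        (fun p hp => by rw [eval_lin]; exact (Finset.mem_filter.1 hp).2) hC'
        (fun p hp => ⟨hgR p hp, fun h => absurd h (by omega)⟩) (by omega)
      exact (prime_lin hl).not_unit (hsq (lin l) ⟨g', by ring⟩)

/-- Forms of degree at most three. -/
theorem card_le_of_deg {f : S} {n : ℕ} (hn : n ≤ 2) (hf : f.IsHomogeneous (n + 1)) (hsq : Squarefree f)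
    (s : Finset ℙ) (hs : ∀ p ∈ s, SingAt f p.rep) : s.card ≤ n + n * (n - 1) / 2 := by
  classical
  induction n generalizing f s with
  | zero =>
    by_contra hlt
    obtain ⟨p, hp⟩ := Finset.card_pos.1 (show 0 < s.card by omega)
    have hconst : ∀ i, pderiv i f = 0 := fun i => by
      obtain ⟨a, ha⟩ : ∃ a, pderiv i f = MvPolynomial.C a :=
        ⟨_, totalDegree_eq_zero_iff_eq_C.1 (le_antisymm (hf.pderiv (i := i)).totalDegree_le zero_le)⟩
      have := (hs p hp).2 i
      rw [ha, eval_C] at this
      rw [ha, this, map_zero]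
    have h := hf.sum_X_mul_pderiv
    simp only [hconst, mul_zero, Finset.sum_const_zero, zero_add, one_smul] at h
    exact hsq.ne_zero h.symm
  | succ n ih =>
    by_cases h2 : 1 < s.card
    · obtain ⟨p₁, hp₁, p₂, hp₂, hne⟩ := Finset.one_lt_card.1 h2
      obtain ⟨B, hB0, hB1⟩ := exists_basis_of_two hne
      obtain ⟨g, s', hg, hgsq, hgs, hle⟩ := exists_split hf hsq s hs B {p₁, p₂}
        (by simp [Finset.insert_subset_iff, hp₁, hp₂])
        (by simp [← hB0, ← hB1]) (by rw [Finset.card_pair hne]; omega)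
      have := ih (by omega) hg hgsq s' hgs
      have : n ≤ 1 := by omega
      interval_cases n <;> omega
    · have : n ≤ 1 := by omega
      interval_cases n <;> omega

omit [IsAlgClosed k] in
/-- The directional derivative. -/
theorem eval_pderiv_dir (q : S) (p w : Fin 3 → k) :
    (Polynomial.derivative (aeval (fun i => Polynomial.C (p i) + Polynomial.X * Polynomial.C (w i)) q)).eval 0 =
      ∑ i, eval p (pderiv i q) * w i := by
  rw [derivative_aeval, Polynomial.eval_finsetSum]
  refine Finset.sum_congr rfl fun i _ => ?_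
  rw [Polynomial.eval_mul, eval_aeval]
  simp

omit [IsAlgClosed k] in
/-- The homogeneous linear part of a polynomial of degree one as a functional. -/
theorem exists_lin_part {w : S} (hw : w.totalDegree = 1) :
    ∃ l : (Fin 3 → k) →ₗ[k] k, homogeneousComponent 1 w = lin l := by
  classical
  refine ⟨∑ i, coeff (Finsupp.single i 1) w • LinearMap.proj i, ?_⟩
  ext d
  rw [coeff_homogeneousComponent, lin, coeff_sum]
  have hval : ∀ i, (∑ j, coeff (Finsupp.single j 1) w • LinearMap.proj (R := k) (φ := fun _ : Fin 3 => k) j)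
      (Pi.single i 1) = coeff (Finsupp.single i 1) w := fun i => by
    simp [Pi.single_apply]
  simp only [hval]
  split_ifs with hd
  · obtain ⟨i, rfl⟩ : ∃ i, d = Finsupp.single i 1 := by
      obtain ⟨i, hi⟩ : ∃ i, d i ≠ 0 := by
        by_contra hall
        push Not at hall
        rw [show d = 0 from Finsupp.ext hall] at hd
        simp at hd
      refine ⟨i, Finsupp.ext fun j => ?_⟩
      rw [Finsupp.degree_eq_sum, Fin.sum_univ_three] at hd
      rw [Finsupp.single_apply]
      fin_cases i <;> fin_cases j <;> simp at hi ⊢ <;> omega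
    rw [Finset.sum_eq_single i]
    · simp [coeff_C_mul, coeff_X]
    · intro j _ hj; simp [coeff_C_mul, coeff_X', Finsupp.single_left_inj, hj]
    · simp
  · refine (Finset.sum_eq_zero fun i _ => ?_).symm
    rw [coeff_C_mul, coeff_X', if_neg (fun h => hd (by rw [← h]; simp)), mul_zero]

/-- A form of degree two through five points, no three on a line, is irreducible. -/
theorem irreducible_conic {q : S} (hqh : q.IsHomogeneous 2) (hq0 : q ≠ 0) (U : Finset ℙ) (hU : 5 ≤ U.card)
    (hqU : ∀ p ∈ U, eval p.rep q = 0)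
    (hgen : ∀ l : (Fin 3 → k) →ₗ[k] k, l ≠ 0 → ∀ T ⊆ U, (∀ p ∈ T, l p.rep = 0) → T.card ≤ 2) :
    Irreducible q := by
  classical
  refine ⟨fun h => ?_, fun g h hgh => ?_⟩
  · have := hqh.totalDegree hq0
    rw [(isUnit_iff_totalDegree_of_isReduced.mp h).2] at this
    omega
  have hg0 : g ≠ 0 := fun h0 => hq0 (by rw [hgh, h0, zero_mul])
  have hh0 : h ≠ 0 := fun h0 => hq0 (by rw [hgh, h0, mul_zero])
  have hdeg : g.totalDegree + h.totalDegree = 2 := by
    rw [← totalDegree_mul_of_isDomain hg0 hh0, ← hgh, hqh.totalDegree hq0]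
  have hunit : ∀ {w : S}, w ≠ 0 → w.totalDegree = 0 → IsUnit w := fun {w} hw hw0 => by
    obtain ⟨r, rfl⟩ : ∃ r, w = MvPolynomial.C r := ⟨_, totalDegree_eq_zero_iff_eq_C.1 hw0⟩
    exact (isUnit_iff_ne_zero.2 fun hr => hw (by rw [hr, map_zero])).map _
  by_contra hcon
  push Not at hcon
  have hg1 : g.totalDegree = 1 := by
    have ng : g.totalDegree ≠ 0 := fun h' => hcon.1 (hunit hg0 h')
    have nh : h.totalDegree ≠ 0 := fun h' => hcon.2 (hunit hh0 h')
    omega
  have hh1 : h.totalDegree = 1 := by omega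
  have hdec : ∀ {w : S}, w.totalDegree = 1 → w = MvPolynomial.C (coeff 0 w) + homogeneousComponent 1 w := by
    intro w hw
    conv_lhs => rw [← sum_homogeneousComponent w, hw]
    rw [Finset.sum_range_succ, Finset.sum_range_one, homogeneousComponent_zero]
  have hle : ∀ {w : S}, w.totalDegree = 1 →
      (U.filter fun p => eval p.rep (homogeneousComponent 1 w) = 0).card ≤ 2 := by
    intro w hw
    obtain ⟨l, hl⟩ := exists_lin_part hw
    refine hgen l (fun h0 => ?_) _ (Finset.filter_subset _ _) fun p hp => ?_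
    · have e := hdec hw
      rw [hl, show lin l = 0 by rw [h0]; simp [lin], add_zero] at e
      rw [e, totalDegree_C] at hw
      exact zero_ne_one hw
    · have := (Finset.mem_filter.1 hp).2
      rwa [hl, eval_lin] at this
  have hsub : U ⊆ (U.filter fun p => eval p.rep (homogeneousComponent 1 g) = 0) ∪
      (U.filter fun p => eval p.rep (homogeneousComponent 1 h) = 0) := by
    intro p hp
    let line : Fin 3 → Polynomial k := fun i => Polynomial.X * Polynomial.C (p.rep i)
    have hev : ∀ (w : S) r, (aeval line w).eval r = eval (r • p.rep) w := fun w r => by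
      rw [eval_aeval, show (fun i => (line i).eval r) = r • p.rep from funext fun i => by simp only [line, Polynomial.eval_mul, Polynomial.eval_X, Polynomial.eval_C, Pi.smul_apply, smul_eq_mul]]
    have hz : aeval line g * aeval line h = 0 := Polynomial.funext fun r => by
      rw [Polynomial.eval_mul, hev, hev, ← map_mul, ← hgh, eval_smul hqh, hqU p hp, mul_zero, Polynomial.eval_zero]
    have haff : ∀ {w : S}, w.totalDegree = 1 → aeval line w = 0 → eval p.rep (homogeneousComponent 1 w) = 0 := by
      intro w hw h'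
      have h0 := (hev w 0).symm
      have h1 := (hev w 1).symm
      rw [h', Polynomial.eval_zero, hdec hw, map_add, eval_C,
        eval_smul (homogeneousComponent_isHomogeneous 1 w), pow_one] at h0 h1
      rw [zero_mul, add_zero] at h0
      rwa [h0, one_mul, zero_add] at h1
    rcases mul_eq_zero.1 hz with h' | h'
    · exact Finset.mem_union_left _ (Finset.mem_filter.2 ⟨hp, haff hg1 h'⟩)
    · exact Finset.mem_union_right _ (Finset.mem_filter.2 ⟨hp, haff hh1 h'⟩)
  have := (Finset.card_le_card hsub).trans (Finset.card_union_le _ _)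
  have := hle hg1
  have := hle hh1
  omega

section conic

variable (B : Module.Basis (Fin 3) k (Fin 3 → k)) (a b c : k)

/-- The conic through the coordinate points. -/
def conic : S := MvPolynomial.C a * (lin (B.coord 1) * lin (B.coord 2)) +
  MvPolynomial.C b * (lin (B.coord 0) * lin (B.coord 2)) + MvPolynomial.C c * (lin (B.coord 0) * lin (B.coord 1))

omit [IsAlgClosed k] in
theorem eval_conic (v : Fin 3 → k) :
    eval v (conic B a b c) = a * (B.coord 1 v * B.coord 2 v) + b * (B.coord 0 v * B.coord 2 v) +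
      c * (B.coord 0 v * B.coord 1 v) := by
  simp only [conic, map_add, map_mul, eval_C, eval_lin]

omit [IsAlgClosed k] in
theorem isHomogeneous_conic : (conic B a b c).IsHomogeneous 2 :=
  ((((isHomogeneous_lin _).mul (isHomogeneous_lin _)).C_mul a).add
    (((isHomogeneous_lin _).mul (isHomogeneous_lin _)).C_mul b)).add
    (((isHomogeneous_lin _).mul (isHomogeneous_lin _)).C_mul c)

omit [IsAlgClosed k] in
theorem conic_ne_zero {a b c : k} (hc : c ≠ 0) : conic B a b c ≠ 0 := fun h => hc (by
  have := eval_conic B a b c (B 0 + B 1)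
  rw [h, map_zero] at this
  simpa using this.symm)

/-- The conic is smooth. -/
theorem conic_grad {a b c : k} (ha : a ≠ 0) (hb : b ≠ 0) (hc : c ≠ 0) {v : Fin 3 → k} (hv : v ≠ 0)
    (hq : eval v (conic B a b c) = 0) : ∃ i, eval v (pderiv i (conic B a b c)) ≠ 0 := by
  by_contra hgrad
  push Not at hgrad
  have key : ∀ w : Fin 3 → k, a * (B.coord 1 v * B.coord 2 w + B.coord 1 w * B.coord 2 v) +
      b * (B.coord 0 v * B.coord 2 w + B.coord 0 w * B.coord 2 v) +
      c * (B.coord 0 v * B.coord 1 w + B.coord 0 w * B.coord 1 v) = 0 := by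
    intro w
    have hline : ∀ l : (Fin 3 → k) →ₗ[k] k,
        aeval (fun i => Polynomial.C (v i) + Polynomial.X * Polynomial.C (w i)) (lin l) =
          Polynomial.C (l v) + Polynomial.X * Polynomial.C (l w) := fun l => Polynomial.funext fun r => by
      have hfn : (fun i => (Polynomial.C (v i) + Polynomial.X * Polynomial.C (w i)).eval r) = v + r • w :=
        funext fun i => by simp only [Polynomial.eval_add, Polynomial.eval_mul, Polynomial.eval_C, Polynomial.eval_X, Pi.add_apply, Pi.smul_apply, smul_eq_mul]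
      rw [eval_aeval, eval_lin, hfn, map_add, map_smul, Polynomial.eval_add,
        Polynomial.eval_mul, Polynomial.eval_C, Polynomial.eval_C, Polynomial.eval_X, smul_eq_mul]
    have h := eval_pderiv_dir (conic B a b c) v w
    simp only [hgrad, zero_mul, Finset.sum_const_zero] at h
    simp only [conic, map_add, map_mul, aeval_C, hline, Polynomial.derivative_add, Polynomial.derivative_mul,
      Polynomial.algebraMap_eq, Polynomial.derivative_C, Polynomial.derivative_X, Polynomial.eval_add,
      Polynomial.eval_mul, Polynomial.eval_C, Polynomial.eval_X, zero_mul, mul_zero, zero_add, add_zero,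
      one_mul] at h
    linear_combination h
  have k0 := key (B 0)
  have k1 := key (B 1)
  have k2 := key (B 2)
  rw [eval_conic] at hq
  have e : ∀ i j, B.coord i (B j) = if j = i then (1 : k) else 0 := fun i j => by
    simp [Finsupp.single_apply]
  simp [e, -Module.Basis.coord_apply] at k0 k1 k2
  generalize hX : B.coord 0 v = X at *
  generalize hY : B.coord 1 v = Y at *
  generalize hZ : B.coord 2 v = Z at *
  have hzero : X = 0 ∧ Y = 0 ∧ Z = 0 := by
    have hX0 : X = 0 := by
      by_contra hX0
      have hYZ : Y * Z = 0 := (mul_eq_zero.1 (show a * (Y * Z) = 0 by linear_combination hq - X * k0)).resolve_left ha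
      rcases mul_eq_zero.1 hYZ with h | h
      · exact hX0 ((mul_eq_zero.1 (show b * X = 0 by linear_combination k2 - a * h)).resolve_left hb)
      · exact hX0 ((mul_eq_zero.1 (show c * X = 0 by linear_combination k1 - a * h)).resolve_left hc)
    exact ⟨hX0, (mul_eq_zero.1 (show a * Y = 0 by linear_combination k2 - b * hX0)).resolve_left ha,
      (mul_eq_zero.1 (show a * Z = 0 by linear_combination k1 - c * hX0)).resolve_left ha⟩
  refine hv ?_
  have h := B.sum_repr v
  rw [Fin.sum_univ_three] at h
  simp only [← Module.Basis.coord_apply, hX, hY, hZ, hzero.1, hzero.2.1, hzero.2.2, zero_smul, add_zero] at h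
  exact h.symm

/-- The parametrisation of the conic, avoiding given points. -/
theorem exists_conic_param {a b c : k} (ha : a ≠ 0) (hb : b ≠ 0) (hc : c ≠ 0) (U : Finset ℙ)
    (hU : ∀ p ∈ U, eval p.rep (conic B a b c) = 0) :
    ∃ C : Param (conic B a b c) 2, ∀ p ∈ U, eval p.rep C.m ≠ 0 := by
  classical
  have hsum : ∀ v, B.coord 0 v • B 0 + B.coord 1 v • B 1 + B.coord 2 v • B 2 = v := fun v => by
    have := B.sum_repr v
    rw [Fin.sum_univ_three] at this
    simpa using this
  obtain ⟨t, ht⟩ := Infinite.exists_notMem_finset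
    ({0, -1} ∪ U.image fun p => b * B.coord 0 p.rep / (a * B.coord 1 p.rep) : Finset k)
  simp only [Finset.mem_union, Finset.mem_insert, Finset.mem_singleton, Finset.mem_image, not_or] at ht
  obtain ⟨⟨hl0, hl1⟩, hlU⟩ := ht
  have hl1' : 1 + t ≠ 0 := fun h => hl1 (by linear_combination h)
  have hl1'' : t + 1 ≠ 0 := by rwa [add_comm]
  let m₁ : (Fin 3 → k) →ₗ[k] k := (t * a) • B.coord 1 - b • B.coord 0
  let m₂ : (Fin 3 → k) →ₗ[k] k := (c * t) • B.coord 1 + (b * (1 + t)) • B.coord 2
  obtain ⟨μ, hμ⟩ := Infinite.exists_notMem_finset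
    ({0} ∪ U.image fun p => -(m₁ p.rep) / m₂ p.rep : Finset k)
  simp only [Finset.mem_union, Finset.mem_singleton, Finset.mem_image, not_or] at hμ
  obtain ⟨hμ0, hμU⟩ := hμ
  let l : (Fin 3 → k) →ₗ[k] k := m₁ + μ • m₂
  have hl : l ≠ 0 := fun h => by
    have := LinearMap.congr_fun h (B 0)
    simp [l, m₁, m₂] at this
    exact hb this
  let P : Fin 3 → Polynomial k := fun i =>
    Polynomial.C (a * B 0 i) * ((1 + Polynomial.C t * Polynomial.X) * -(1 + Polynomial.C (t + 1) * Polynomial.X)) +
      Polynomial.C (b * B 1 i) * (Polynomial.X * -(1 + Polynomial.C (t + 1) * Polynomial.X)) +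
      Polynomial.C (c * B 2 i) * (Polynomial.X * (1 + Polynomial.C t * Polynomial.X))
  have hval : ∀ (r s : k), r • (fun i => (P i).eval s) =
      (r * (a * ((1 + t * s) * -(1 + (t + 1) * s)))) • B 0 + (r * (b * (s * -(1 + (t + 1) * s)))) • B 1 +
        (r * (c * (s * (1 + t * s)))) • B 2 := fun r s => by
    funext i
    simp [P]
    ring
  have hcov : ∀ v, eval v (conic B a b c) = 0 → eval v (lin l) ≠ 0 →
      ∃ s r : k, v = r • fun i => (P i).eval s := by
    intro v hv hm
    rw [eval_conic] at hv
    rw [eval_lin] at hm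
    have hfin : ∀ s r : k, B.coord 0 v = r * (a * ((1 + t * s) * -(1 + (t + 1) * s))) →
        B.coord 1 v = r * (b * (s * -(1 + (t + 1) * s))) → B.coord 2 v = r * (c * (s * (1 + t * s))) →
        ∃ s r : k, v = r • fun i => (P i).eval s := fun s r hx hy hz => ⟨s, r, by
      conv_lhs => rw [← hsum v, hx, hy, hz]
      rw [hval]⟩
    simp only [l, m₁, m₂, LinearMap.add_apply, LinearMap.sub_apply, LinearMap.smul_apply, smul_eq_mul] at hm
    generalize B.coord 0 v = X at *
    generalize B.coord 1 v = Y at *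
    generalize B.coord 2 v = Z at *
    by_cases hX : X = 0
    · rcases mul_eq_zero.1 ((mul_eq_zero.1 (show a * (Y * Z) = 0 by
        linear_combination hv - (b * Z + c * Y) * hX)).resolve_left ha) with hY | hZ
      · refine hfin (-1 / (t + 1)) (-Z * (t + 1) ^ 2 / c) ?_ ?_ ?_
        · rw [hX]; field_simp; ring
        · rw [hY]; field_simp; ring
        · field_simp; ring
      · refine hfin (-1 / t) (-Y * t ^ 2 / b) ?_ ?_ ?_
        · rw [hX]; field_simp; ring
        · field_simp; ring
        · rw [hZ]; field_simp; ring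
    by_cases hY : Y = 0
    · have hZ : Z = 0 := (mul_eq_zero.1 (show (b * X) * Z = 0 by
        linear_combination hv - (a * Z + c * X) * hY)).resolve_left (mul_ne_zero hb hX)
      refine hfin 0 (-X / a) ?_ ?_ ?_
      · field_simp; ring
      · rw [hY]; ring
      · rw [hZ]; ring
    have hZ : Z ≠ 0 := fun hZ => mul_ne_zero hc (mul_ne_zero hX hY) (by
      linear_combination hv - (a * Y + b * X) * hZ)
    have hd : b * X - t * a * Y ≠ 0 := fun hd => hm (by
      have : c * t * Y + b * (1 + t) * Z = 0 := by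
        refine (mul_eq_zero.1 (show a * Y * (c * t * Y + b * (1 + t) * Z) = 0 by
          linear_combination b * hv - (c * Y + b * Z) * hd)).resolve_left (mul_ne_zero ha hY)
      linear_combination (-1 : k) * hd + μ * this)
    refine hfin (a * Y / (b * X - t * a * Y)) ((b * X - t * a * Y) ^ 2 * Z / (a * b * c * (X * Y))) ?_ ?_ ?_
    all_goals
      have e1 : 1 + t * (a * Y / (b * X - t * a * Y)) = b * X / (b * X - t * a * Y) := by
        rw [eq_div_iff hd, add_mul, mul_assoc t (a * Y / _), div_mul_cancel₀ _ hd]; ring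
      have e2 : -(1 + (t + 1) * (a * Y / (b * X - t * a * Y))) = c * (X * Y) / Z / (b * X - t * a * Y) := by
        rw [eq_div_iff hd, neg_mul, add_mul, mul_assoc (t + 1), div_mul_cancel₀ _ hd, eq_div_iff hZ]
        linear_combination (-1 : k) * hv
      simp only [e1, e2]
      generalize hD : b * X - t * a * Y = d at hd ⊢
      field_simp
  have hdeg : ∀ i, (P i).natDegree ≤ 2 := by
    intro i
    have h1 : ∀ r : k, (1 + Polynomial.C r * Polynomial.X).natDegree ≤ 1 := fun r =>
      (Polynomial.natDegree_add_le _ _).trans (max_le (by simp)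
        ((Polynomial.natDegree_C_mul_le _ _).trans Polynomial.natDegree_X_le))
    have h2 := h1 t
    have h3 : (-(1 + Polynomial.C (t + 1) * Polynomial.X)).natDegree ≤ 1 := by
      rw [Polynomial.natDegree_neg]; exact h1 _
    have h4 : (Polynomial.X : Polynomial k).natDegree ≤ 1 := Polynomial.natDegree_X_le
    refine (Polynomial.natDegree_add_le _ _).trans
      (max_le ((Polynomial.natDegree_add_le _ _).trans (max_le ?_ ?_)) ?_)
    all_goals refine (Polynomial.natDegree_C_mul_le _ _).trans (Polynomial.natDegree_mul_le.trans ?_); omega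
  refine ⟨⟨lin l, P, hdeg, fun h => ?_, hcov⟩, fun p hp h0 => ?_⟩
  · obtain ⟨g, hg⟩ := h
    have hg0 : g ≠ 0 := fun h0 => lin_ne_zero hl (by rw [hg, h0, mul_zero])
    have := congrArg MvPolynomial.totalDegree hg
    rw [totalDegree_mul_of_isDomain (conic_ne_zero B hc) hg0, (isHomogeneous_conic B a b c).totalDegree (conic_ne_zero B hc),
      (isHomogeneous_lin l).totalDegree (lin_ne_zero hl)] at this
    omega
  · change eval p.rep (lin l) = 0 at h0
    rw [eval_lin] at h0
    by_cases hm2 : m₂ p.rep = 0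
    · have hm1 : m₁ p.rep = 0 := by simpa [l, hm2] using h0
      have hv := hU p hp
      rw [eval_conic] at hv
      have hne := p.rep_nonzero
      rw [← hsum p.rep] at hne
      simp only [m₁, m₂, LinearMap.add_apply, LinearMap.sub_apply, LinearMap.smul_apply, smul_eq_mul] at hm1 hm2
      generalize hX : B.coord 0 p.rep = X at *
      generalize hY : B.coord 1 p.rep = Y at *
      generalize B.coord 2 p.rep = Z at *
      by_cases hY0 : Y = 0
      · refine hne ?_
        rw [(mul_eq_zero.1 (show b * X = 0 by linear_combination (t * a) * hY0 - hm1)).resolve_left hb, hY0,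
          (mul_eq_zero.1 (show (b * (1 + t)) * Z = 0 by linear_combination hm2 - (c * t) * hY0)).resolve_left
            (mul_ne_zero hb hl1')]
        simp
      · exact hlU ⟨p, hp, by rw [hX, hY]; field_simp; linear_combination (-1 : k) * hm1⟩
    · exact hμU ⟨p, hp, by field_simp; simp [l] at h0 ⊢; linear_combination (-1 : k) * h0⟩

end conic

/-- Five singular points of a quartic, no three on a line, are impossible. -/
theorem card_le_four {f : S} (hf : f.IsHomogeneous 4) (hsq : Squarefree f) (s : Finset ℙ)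
    (hs : ∀ p ∈ s, SingAt f p.rep)
    (hgen : ∀ l : (Fin 3 → k) →ₗ[k] k, l ≠ 0 → ∀ T ⊆ s, (∀ p ∈ T, l p.rep = 0) → T.card ≤ 2) :
    s.card ≤ 4 := by
  classical
  by_contra hlt
  obtain ⟨U, hU, hU5⟩ := Finset.exists_subset_card_eq (show 5 ≤ s.card by omega)
  obtain ⟨q, hq, hqlist⟩ : ∃ q : Fin 5 → ℙ, Function.Injective q ∧ Finset.univ.image q = U := by
    let e := (U.equivFinOfCardEq hU5).symm
    exact ⟨fun i => (e i).1, Subtype.val_injective.comp e.injective, Finset.ext fun p => ⟨fun h => by
      obtain ⟨i, -, rfl⟩ := Finset.mem_image.1 h; exact (e i).2, fun h => Finset.mem_image.2 ⟨e.symm ⟨p, h⟩, by simp⟩⟩⟩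
  have hqU : ∀ i, q i ∈ U := fun i => hqlist ▸ Finset.mem_image_of_mem q (Finset.mem_univ i)
  have hnl : ∀ (l : (Fin 3 → k) →ₗ[k] k) (i j m : Fin 5), i ≠ j → i ≠ m → j ≠ m →
      l (q i).rep = 0 → l (q j).rep = 0 → l (q m).rep = 0 → l = 0 := by
    intro l i j m hij him hjm li lj lm
    by_contra hl
    have := hgen l hl {q i, q j, q m} (by simp [Finset.insert_subset_iff, hU (hqU i), hU (hqU j), hU (hqU m)])
      (by simp [li, lj, lm])
    rw [Finset.card_insert_of_notMem (by simp [hq.eq_iff, hij, him]), Finset.card_pair (hq.ne hjm)] at this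
    omega
  obtain ⟨B₀, hb0, hb1⟩ := exists_basis_of_two (hq.ne (show (0 : Fin 5) ≠ 1 by decide))
  have h3 : LinearIndependent k ![(q 0).rep, (q 1).rep, (q 2).rep] := by
    have h2 : LinearIndependent k ![(q 0).rep, (q 1).rep] := by
      have := B₀.linearIndependent.comp ![0, 1] (by intro i j; fin_cases i <;> fin_cases j <;> simp)
      rwa [show B₀ ∘ ![0, 1] = ![(q 0).rep, (q 1).rep] from by
        funext i; fin_cases i <;> simp [hb0, hb1]] at this
    have hmem : (q 2).rep ∉ Submodule.span k (Set.range ![(q 0).rep, (q 1).rep]) := by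
      intro hmem
      have hle : Submodule.span k (Set.range ![(q 0).rep, (q 1).rep]) ≤ LinearMap.ker (B₀.coord 2) := by
        rw [Submodule.span_le]
        rintro _ ⟨i, rfl⟩
        fin_cases i <;> simp [← hb0, ← hb1]
      have := hnl (B₀.coord 2) 0 1 2 (by decide) (by decide) (by decide) (by simp [← hb0]) (by simp [← hb1]) (hle hmem)
      have h' := LinearMap.congr_fun this (B₀ 2)
      simp at h'
    have := linearIndependent_finSnoc.2 ⟨h2, hmem⟩
    rwa [show Fin.snoc ![(q 0).rep, (q 1).rep] (q 2).rep = ![(q 0).rep, (q 1).rep, (q 2).rep] from by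
      funext i; fin_cases i <;> rfl] at this
  let B := basisOfLinearIndependentOfCardEqFinrank h3 (by simp)
  have hB0 : (q 0).rep = B 0 := by simp [B]
  have hB1 : (q 1).rep = B 1 := by simp [B]
  have hB2 : (q 2).rep = B 2 := by simp [B]
  have e : ∀ i j, B.coord i (B j) = if j = i then (1 : k) else 0 := fun i j => by
    simp [Finsupp.single_apply]
  have hne0 : ∀ m : Fin 5, m ≠ 0 → m ≠ 1 → m ≠ 2 → ∀ i, B.coord i (q m).rep ≠ 0 := by
    intro m m0 m1 m2 i hi
    have h1 := LinearMap.congr_fun (show B.coord i = 0 by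
      fin_cases i
      · exact hnl _ 1 2 m (by decide) m1.symm m2.symm (by rw [hB1, e]; simp) (by rw [hB2, e]; simp) hi
      · exact hnl _ 0 2 m (by decide) m0.symm m2.symm (by rw [hB0, e]; simp) (by rw [hB2, e]; simp) hi
      · exact hnl _ 0 1 m (by decide) m0.symm m1.symm (by rw [hB0, e]; simp) (by rw [hB1, e]; simp) hi) (B i)
    rw [e, if_pos rfl] at h1
    exact one_ne_zero h1
  have h3' := hne0 3 (by decide) (by decide) (by decide)
  have h4' := hne0 4 (by decide) (by decide) (by decide)
  obtain ⟨a, b, c, hne, e3, e4⟩ : ∃ a b c : k, ¬ (a = 0 ∧ b = 0 ∧ c = 0) ∧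
      eval (q 3).rep (conic B a b c) = 0 ∧ eval (q 4).rep (conic B a b c) = 0 := by
    let row : Fin 5 → Fin 3 → k := fun m => ![B.coord 1 (q m).rep * B.coord 2 (q m).rep,
      B.coord 0 (q m).rep * B.coord 2 (q m).rep, B.coord 0 (q m).rep * B.coord 1 (q m).rep]
    let φ : (Fin 3 → k) →ₗ[k] (Fin 2 → k) := Matrix.mulVecLin (Matrix.of ![row 3, row 4])
    have hker : LinearMap.ker φ ≠ ⊥ := LinearMap.ker_ne_bot_of_finrank_lt (by simp)
    obtain ⟨w, hw, hw0⟩ := Submodule.exists_mem_ne_zero_of_ne_bot hker
    refine ⟨w 0, w 1, w 2, fun h => hw0 (funext fun i => by fin_cases i <;> simp [h.1, h.2.1, h.2.2]), ?_, ?_⟩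
    · have := congrFun (LinearMap.mem_ker.1 hw) 0
      simp [φ, row, Matrix.mulVec, dotProduct, Fin.sum_univ_three, -Module.Basis.coord_apply] at this
      rw [eval_conic]
      linear_combination this
    · have := congrFun (LinearMap.mem_ker.1 hw) 1
      simp [φ, row, Matrix.mulVec, dotProduct, Fin.sum_univ_three, -Module.Basis.coord_apply] at this
      rw [eval_conic]
      linear_combination this
  rw [eval_conic] at e3 e4
  -- a degenerate conic contains three collinear points
  have hzero : ∀ (m : Fin 5) (i j : Fin 3), m ≠ 3 → m ≠ 4 → i ≠ j → B.coord i (q m).rep = 0 → B.coord j (q m).rep = 0 →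
      ∀ u v : k, u * B.coord i (q 3).rep + v * B.coord j (q 3).rep = 0 →
        u * B.coord i (q 4).rep + v * B.coord j (q 4).rep = 0 → u = 0 ∧ v = 0 := by
    intro m i j m3 m4 hij hi hj u v h3e h4e
    have h := hnl (u • B.coord i + v • B.coord j) m 3 4 m3 m4 (by decide) (by simp [hi, hj, -Module.Basis.coord_apply])
      (by simpa using h3e) (by simpa using h4e)
    have hu := LinearMap.congr_fun h (B i)
    have hv := LinearMap.congr_fun h (B j)
    simp [e, hij, hij.symm, -Module.Basis.coord_apply] at hu hv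
    exact ⟨hu, hv⟩
  have ha : a ≠ 0 := by
    intro ha
    obtain ⟨hb', hc'⟩ := hzero 0 2 1 (by decide) (by decide) (by decide) (by rw [hB0, e]; simp) (by rw [hB0, e]; simp) b c
      (mul_left_cancel₀ (h3' 0) (by linear_combination e3 - (B.coord 1 (q 3).rep * B.coord 2 (q 3).rep) * ha))
      (mul_left_cancel₀ (h4' 0) (by linear_combination e4 - (B.coord 1 (q 4).rep * B.coord 2 (q 4).rep) * ha))
    exact hne ⟨ha, hb', hc'⟩
  have hb : b ≠ 0 := by
    intro hb
    obtain ⟨ha', -⟩ := hzero 1 2 0 (by decide) (by decide) (by decide) (by rw [hB1, e]; simp) (by rw [hB1, e]; simp) a c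
      (mul_left_cancel₀ (h3' 1) (by linear_combination e3 - (B.coord 0 (q 3).rep * B.coord 2 (q 3).rep) * hb))
      (mul_left_cancel₀ (h4' 1) (by linear_combination e4 - (B.coord 0 (q 4).rep * B.coord 2 (q 4).rep) * hb))
    exact ha ha'
  have hc : c ≠ 0 := by
    intro hc
    obtain ⟨ha', -⟩ := hzero 2 1 0 (by decide) (by decide) (by decide) (by rw [hB2, e]; simp) (by rw [hB2, e]; simp) a b
      (mul_left_cancel₀ (h3' 2) (by linear_combination e3 - (B.coord 0 (q 3).rep * B.coord 1 (q 3).rep) * hc))
      (mul_left_cancel₀ (h4' 2) (by linear_combination e4 - (B.coord 0 (q 4).rep * B.coord 1 (q 4).rep) * hc))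
    exact ha ha'
  have hzU : ∀ p ∈ U, eval p.rep (conic B a b c) = 0 := by
    intro p hp
    rw [← hqlist] at hp
    obtain ⟨i, -, rfl⟩ := Finset.mem_image.1 hp
    rw [eval_conic]
    fin_cases i <;> simp only [Fin.zero_eta, Fin.mk_one, Fin.isValue, Fin.reduceFinMk]
    · show _ + _ + _ = _
      rw [hB0, e, e, e]; simp
    · show _ + _ + _ = _
      rw [hB1, e, e, e]; simp
    · show _ + _ + _ = _
      rw [hB2, e, e, e]; simp
    · exact e3
    · exact e4
  have hirr := irreducible_conic (isHomogeneous_conic B a b c) (conic_ne_zero B hc) U hU5.ge hzU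
    fun l hl T hT => hgen l hl T (hT.trans hU)
  obtain ⟨C, hC⟩ := exists_conic_param B ha hb hc U hzU
  obtain ⟨h, rfl⟩ := C.dvd_of_card hirr.prime (by norm_num) hf (Or.inr rfl) U hzU hC
    (fun p hp => ⟨(hs p (hU hp)).1, fun _ => (hs p (hU hp)).2⟩) (by omega)
  have hh : h.IsHomogeneous 2 :=
    isHomogeneous_of_mul (isHomogeneous_conic B a b c) (conic_ne_zero B hc) hf rfl
  have hhU : ∀ p ∈ U, eval p.rep h = 0 := fun p hp => by
    obtain ⟨i, hi⟩ := conic_grad B ha hb hc p.rep_nonzero (hzU p hp)
    have := (hs p (hU hp)).2 i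
    rw [pderiv_mul, map_add, map_mul, map_mul, hzU p hp, zero_mul, add_zero, mul_eq_zero] at this
    exact this.resolve_left hi
  obtain ⟨h', rfl⟩ := C.dvd_of_card hirr.prime (by norm_num) hh (Or.inl rfl) U hzU hC
    (fun p hp => ⟨hhU p hp, fun h => absurd h (by omega)⟩) (by omega)
  exact hirr.not_isUnit (hsq (conic B a b c) ⟨h', by ring⟩)

/-- At most six singular points. -/
theorem card_le_six {f : S} (hf : f.IsHomogeneous 4) (hsq : Squarefree f) (s : Finset ℙ)
    (hs : ∀ p ∈ s, SingAt f p.rep) : s.card ≤ 6 := by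
  classical
  by_cases hgen : ∀ l : (Fin 3 → k) →ₗ[k] k, l ≠ 0 → ∀ T ⊆ s, (∀ p ∈ T, l p.rep = 0) → T.card ≤ 2
  · exact (card_le_four hf hsq s hs hgen).trans (by norm_num)
  push Not at hgen
  obtain ⟨l, hl, T, hT, hlT, hT3⟩ := hgen
  obtain ⟨p₁, hp₁, p₂, hp₂, hne⟩ := Finset.one_lt_card.1 (show 1 < T.card by omega)
  obtain ⟨B, hB0, hB1⟩ := exists_basis_of_two hne
  have hl' : ∀ v, l v = l (B 2) * B.coord 2 v := fun v => by
    conv_lhs => rw [← B.sum_repr v, Fin.sum_univ_three]
    rw [map_add, map_add, map_smul, map_smul, map_smul, hB0, hB1, hlT p₁ hp₁, hlT p₂ hp₂]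
    simp [mul_comm]
  have hl2 : l (B 2) ≠ 0 := fun h => hl (LinearMap.ext fun v => by rw [hl', h, zero_mul]; rfl)
  obtain ⟨g, s', hg, hgsq, hgs, hle⟩ := exists_split (n := 3) hf hsq s hs B T hT
    (fun p hp => by have := hlT p hp; rw [hl'] at this; exact (mul_eq_zero.1 this).resolve_left hl2) (by omega)
  have := card_le_of_deg (n := 2) le_rfl hg hgsq s' hgs
  omega

end Groth.Agent.QuarticSing
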